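import Cfsg.Agent.Lib.PLocal.StablePSolvable
import Cfsg.Agent.Lib.Core.PSolvable2

/-!
# Conjugation invariant sets of `p`-elements in `p`-solvable groups

The local lemma behind Thompson's theorem on two-generated subgroups.  If `Z` is a conjugation
invariant set of `p`-elements of a `p`-solvable group (`p ≥ 5`) such that `Z` meets each Sylow
`p`-subgroup in an abelian subgroup, then every `p`-element of the subgroup generated by `Z` lies in
`Z`.
-/

set_option autoImplicit false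
set_option linter.unusedSectionVars false

namespace Cfsg.Agent.Lib.TwoGen.Core

open Subgroup Cfsg Cfsg.Agent.Lib.Core.Basic Cfsg.Agent.Lib.Core.PSolvable
  Cfsg.Agent.Lib.PLocal.StablePSolvable Cfsg.Agent.Lib.PLocal.Stability
open scoped commutatorElement

universe u

/-- `x` is a `p`-element. -/
def IsPE (p : ℕ) {G : Type*} [Group G] (x : G) : Prop := ∃ k : ℕ, x ^ p ^ k = 1

section basic

variable {G : Type*} [Group G] {p : ℕ}

theorem IsPE.conj {x : G} (h : IsPE p x) (g : G) : IsPE p (g * x * g⁻¹) := by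
  obtain ⟨k, hk⟩ := h
  exact ⟨k, by rw [conj_pow, hk]; group⟩

theorem IsPE.map {H : Type*} [Group H] (f : G →* H) {x : G} (h : IsPE p x) : IsPE p (f x) := by
  obtain ⟨k, hk⟩ := h
  exact ⟨k, by rw [← map_pow, hk, map_one]⟩

theorem IsPE.pow {x : G} (h : IsPE p x) (n : ℕ) : IsPE p (x ^ n) := by
  obtain ⟨k, hk⟩ := h
  exact ⟨k, by rw [← pow_mul, mul_comm, pow_mul, hk, one_pow]⟩

theorem isPE_of_mem {P : Subgroup G} (hP : IsPGroup p P) {x : G} (hx : x ∈ P) : IsPE p x := by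
  obtain ⟨k, hk⟩ := hP ⟨x, hx⟩
  exact ⟨k, by simpa using congrArg Subtype.val hk⟩

theorem isPE_one : IsPE p (1 : G) := ⟨0, by simp⟩

theorem isPGroup_zpowers {x : G} (h : IsPE p x) : IsPGroup p (zpowers x) := by
  obtain ⟨k, hk⟩ := h
  rintro ⟨_, j, rfl⟩
  refine ⟨k, Subtype.ext ?_⟩
  change (x ^ j) ^ p ^ k = 1
  rw [← zpow_natCast, zpow_comm, zpow_natCast, hk, one_zpow]

theorem exists_natPow_eq_zpow [Finite G] (x : G) (i : ℤ) : ∃ n : ℕ, x ^ n = x ^ i := by
  have hx : IsOfFinOrder x := isOfFinOrder_of_finite x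
  have h : x ^ i ∈ zpowers x := ⟨i, rfl⟩
  rw [← mem_powers_iff_mem_zpowers] at h
  obtain ⟨n, hn⟩ := h
  exact ⟨n, hn⟩

end basic

section conj

variable {H : Type*} [Group H] [Finite H] {p : ℕ} [Fact p.Prime]

/-- Two `p`-elements which are congruent modulo a normal `p'`-subgroup are conjugate. -/
theorem exists_conj_of_mk_eq (K : Subgroup H) [hK : K.Normal] (hc : (Nat.card K).Coprime p) {u s : H}
    (hu : IsPE p u) (hs : IsPE p s) (h : u * s⁻¹ ∈ K) : ∃ d : H, d * u * d⁻¹ = s := by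
  classical
  set D : Subgroup H := K ⊔ zpowers s with hD
  have hsD : s ∈ D := (le_sup_right : zpowers s ≤ D) (mem_zpowers s)
  have huD : u ∈ D := by
    have : u = (u * s⁻¹) * s := by group
    rw [this]
    exact D.mul_mem ((le_sup_left : K ≤ D) h) hsD
  -- Sylow subgroups of `D`
  let s' : D := ⟨s, hsD⟩
  let u' : D := ⟨u, huD⟩
  have hs' : IsPE p s' := by
    obtain ⟨k, hk⟩ := hs
    exact ⟨k, Subtype.ext (by simpa [s'] using hk)⟩
  have hu' : IsPE p u' := by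
    obtain ⟨k, hk⟩ := hu
    exact ⟨k, Subtype.ext (by simpa [u'] using hk)⟩
  obtain ⟨Q, hQ⟩ := (isPGroup_zpowers hs').exists_le_sylow
  obtain ⟨Q', hQ'⟩ := (isPGroup_zpowers hu').exists_le_sylow
  obtain ⟨d, hd⟩ := MulAction.exists_smul_eq ↥D Q' Q
  have hs'Q : s' ∈ (Q : Subgroup D) := hQ (mem_zpowers s')
  have hu'Q : d * u' * d⁻¹ ∈ (Q : Subgroup D) := by
    rw [← hd, Sylow.smul_def]
    apply (Subgroup.mem_pointwise_smul_iff_inv_smul_mem).2
    simpa [MulAut.smul_def, mul_assoc] using hQ' (mem_zpowers u')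
  -- `d` normal form
  have hdD : (d : H) ∈ K ⊔ zpowers s := d.2
  have hcomm : ((d : H) * u * (d : H)⁻¹) * s⁻¹ ∈ K := by
    -- work modulo `K`
    let π : H →* H ⧸ K := QuotientGroup.mk' K
    have hπus : π u = π s := by
      have h1 : π (u * s⁻¹) = 1 := (QuotientGroup.eq_one_iff _).2 h
      rw [map_mul, map_inv, mul_inv_eq_one] at h1
      exact h1
    have hπd : π d ∈ zpowers (π s) := by
      have h1 : π d ∈ (K ⊔ zpowers s).map π := ⟨d, hdD, rfl⟩
      rw [Subgroup.map_sup, MonoidHom.map_zpowers] at h1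
      have h2 : K.map π = ⊥ := by
        rw [Subgroup.map_eq_bot_iff]
        rw [QuotientGroup.ker_mk']
      rwa [h2, bot_sup_eq] at h1
    obtain ⟨j, hj⟩ := hπd
    apply (QuotientGroup.eq_one_iff _).1
    change π _ = 1
    simp only [map_mul, map_inv, hπus]
    rw [← hj]
    have h1 : (π s) ^ j * π s = π s * (π s) ^ j := ((Commute.refl (π s)).zpow_left j).eq
    simp only [h1]
    group
  -- conclude
  have hQK : ((d : H) * u * (d : H)⁻¹) * s⁻¹ = 1 := by
    have h1 : d * u' * d⁻¹ * s'⁻¹ ∈ (Q : Subgroup D) := Subgroup.mul_mem _ hu'Q (Subgroup.inv_mem _ hs'Q)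
    have h2 : IsPE p (d * u' * d⁻¹ * s'⁻¹) := isPE_of_mem Q.isPGroup' h1
    obtain ⟨k, hk⟩ := h2
    have h3 : ((d : H) * u * (d : H)⁻¹ * s⁻¹) ^ p ^ k = 1 := by
      simpa [s', u'] using congrArg Subtype.val hk
    have h4 : orderOf (⟨_, hcomm⟩ : K) ∣ Nat.card K := orderOf_dvd_natCard _
    have h5 : orderOf (⟨_, hcomm⟩ : K) ∣ p ^ k := by
      apply orderOf_dvd_of_pow_eq_one
      exact Subtype.ext (by simpa using h3)
    have h6 : Nat.Coprime (Nat.card K) (p ^ k) := Nat.Coprime.pow_right _ hc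
    have h7 : orderOf (⟨_, hcomm⟩ : K) = 1 := Nat.dvd_one.1 (h6 ▸ Nat.dvd_gcd h4 h5)
    have h8 := orderOf_eq_one_iff.1 h7
    simpa using congrArg Subtype.val h8
  exact ⟨d, by rw [mul_inv_eq_one] at hQK; exact hQK⟩

end conj

section main

variable {H : Type*} [Group H] [Finite H] {p : ℕ} [Fact p.Prime]

/-- **The local lemma.** -/
theorem mem_of_mem_closure (hp2 : p ≠ 2) (hp3 : p ≠ 3) (hs : IsPSolvable p H) (Z : Set H)
    (h1 : (1 : H) ∈ Z) (hZp : ∀ z ∈ Z, IsPE p z) (hZc : ∀ z ∈ Z, ∀ g : H, g * z * g⁻¹ ∈ Z)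
    (hmul : ∀ S : Sylow p H, ∀ x ∈ Z, x ∈ (S : Subgroup H) → ∀ y ∈ Z, y ∈ (S : Subgroup H) →
      x * y ∈ Z ∧ x * y = y * x)
    {u : H} (hu : u ∈ closure Z) (hup : IsPE p u) : u ∈ Z := by
  classical
  set K := pPrimeCore p H with hK
  have hKn : K.Normal := inferInstance
  have hKc : (Nat.card K).Coprime p := pPrimeCore_coprime
  let f : H →* H ⧸ K := QuotientGroup.mk' K
  have hf : Function.Surjective f := QuotientGroup.mk'_surjective K
  have hfK : ∀ a b : H, f a = f b → a * b⁻¹ ∈ K := by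
    intro a b hab
    apply (QuotientGroup.eq_one_iff _).1
    change f _ = 1
    rw [map_mul, map_inv, hab, mul_inv_cancel]
  have hS' : IsPSolvable p (H ⧸ K) := isPSolvable_of_surjective f hf hs
  have hcore : pPrimeCore p (H ⧸ K) = ⊥ := pPrimeCore_quotient_eq_bot
  have hC := centralizer_pCore_le_of_isPSolvable hS' hcore
  set R := pCore p (H ⧸ K) with hR
  have hRn : R.Normal := inferInstance
  have hRp : IsPGroup p R := pCore_isPGroup
  have hRS : ∀ S : Sylow p H, ∀ r ∈ R, ∃ y ∈ (S : Subgroup H), f y = r := by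
    intro S r hr
    have h0 : R ≤ ((S.mapSurjective hf : Sylow p (H ⧸ K)) : Subgroup (H ⧸ K)) := pCore_le_sylow _
    have h2 := h0 hr
    rw [Sylow.coe_mapSurjective] at h2
    obtain ⟨y, hy, rfl⟩ := h2
    exact ⟨y, hy, rfl⟩
  have hpow : ∀ S : Sylow p H, ∀ x ∈ Z, x ∈ (S : Subgroup H) → ∀ i : ℤ, x ^ i ∈ Z := by
    intro S x hx hxS i
    obtain ⟨n, hn⟩ := exists_natPow_eq_zpow x i
    rw [← hn]
    clear hn
    induction n with
    | zero => simpa using h1
    | succ n ih =>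
      rw [pow_succ]
      exact (hmul S _ ih (Subgroup.pow_mem _ hxS n) x hx hxS).1
  -- Step 1: the elements of `Z` lie in `O_{p',p}`
  have hstep1 : ∀ z ∈ Z, f z ∈ R := by
    intro z hz
    obtain ⟨S, hSz⟩ := (isPGroup_zpowers (hZp z hz)).exists_le_sylow
    have hzS : z ∈ (S : Subgroup H) := hSz (mem_zpowers z)
    have hq : ⁅⁅R, zpowers (f z)⁆, zpowers (f z)⁆ = ⊥ := by
      rw [commutator_eq_bot_iff_le_centralizer, commutator_le]
      rintro r hr _ ⟨i, rfl⟩
      rw [Subgroup.mem_centralizer_iff]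
      rintro _ ⟨j, rfl⟩
      obtain ⟨y, hyS, rfl⟩ := hRS S r hr
      have hwS : z ^ i ∈ (S : Subgroup H) := Subgroup.zpow_mem _ hzS i
      have hwZ : z ^ i ∈ Z := hpow S z hz hzS i
      have hw'S : z ^ j ∈ (S : Subgroup H) := Subgroup.zpow_mem _ hzS j
      have hw'Z : z ^ j ∈ Z := hpow S z hz hzS j
      have hwiZ : (z ^ i)⁻¹ ∈ Z := by
        rw [← zpow_neg]
        exact hpow S z hz hzS (-i)
      have hcZ : y * z ^ i * y⁻¹ * (z ^ i)⁻¹ ∈ Z :=
        (hmul S _ (hZc _ hwZ y) (Subgroup.mul_mem _ (Subgroup.mul_mem _ hyS hwS)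
          (Subgroup.inv_mem _ hyS)) _ hwiZ (Subgroup.inv_mem _ hwS)).1
      have hcS : y * z ^ i * y⁻¹ * (z ^ i)⁻¹ ∈ (S : Subgroup H) :=
        Subgroup.mul_mem _ (Subgroup.mul_mem _ (Subgroup.mul_mem _ hyS hwS)
          (Subgroup.inv_mem _ hyS)) (Subgroup.inv_mem _ hwS)
      have hcomm := (hmul S _ hcZ hcS _ hw'Z hw'S).2
      have h2 := congrArg f hcomm
      simp only [map_mul, map_inv, map_zpow] at h2
      simp only [commutatorElement_def]
      exact h2.symm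
    have hst := stable_of_pSolvable hp2 hS' (fun h => absurd h hp3) ⊤ R le_rfl (f z) (mem_top _) hq
    obtain ⟨D, hDn, hzD, hD⟩ := exists_D_of_mem_pCore hst
    have hDp : IsPGroup p D := by
      rintro ⟨y, hy⟩
      obtain ⟨m, hm⟩ := hD y hy
      obtain ⟨n, hn⟩ := hRp ⟨_, hC hm⟩
      refine ⟨m + n, Subtype.ext ?_⟩
      have h3 : (y ^ p ^ m) ^ p ^ n = 1 := by simpa using congrArg Subtype.val hn
      simp only [SubgroupClass.coe_pow, OneMemClass.coe_one]
      rw [pow_add, pow_mul]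
      exact h3
    exact le_pCore hDn hDp hzD
  -- Step 2
  obtain ⟨S⟩ : Nonempty (Sylow p H) := inferInstance
  let A : Subgroup H :=
    { carrier := {x | x ∈ Z ∧ x ∈ (S : Subgroup H)}
      mul_mem' := fun {a b} ha hb =>
        ⟨(hmul S a ha.1 ha.2 b hb.1 hb.2).1, Subgroup.mul_mem _ ha.2 hb.2⟩
      one_mem' := ⟨h1, Subgroup.one_mem _⟩
      inv_mem' := fun {a} ha => ⟨by simpa using hpow S a ha.1 ha.2 (-1), Subgroup.inv_mem _ ha.2⟩ }
  have hA : ∀ z ∈ Z, ∃ s ∈ A, f s = f z := by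
    intro z hz
    obtain ⟨s, hsS, hs⟩ := hRS S (f z) (hstep1 z hz)
    obtain ⟨d, hd⟩ := exists_conj_of_mk_eq K hKc (isPE_of_mem S.isPGroup' hsS) (hZp z hz) (hfK _ _ hs)
    refine ⟨s, ⟨?_, hsS⟩, hs⟩
    have e : s = d⁻¹ * z * d⁻¹⁻¹ := by rw [← hd]; group
    rw [e]
    exact hZc z hz d⁻¹
  have hle : closure Z ≤ (A.map f).comap f := by
    rw [closure_le]
    intro z hz
    obtain ⟨s, hs, hsz⟩ := hA z hz
    exact ⟨s, hs, hsz⟩
  obtain ⟨s, hs, hsu⟩ := hle hu
  obtain ⟨d, hd⟩ := exists_conj_of_mk_eq K hKc hup (hZp s hs.1) (hfK _ _ hsu.symm)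
  have e : u = d⁻¹ * s * d⁻¹⁻¹ := by rw [← hd]; group
  rw [e]
  exact hZc s hs.1 d⁻¹

end main

end Cfsg.Agent.Lib.TwoGen.Core
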