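import Cfsg.Agent.Lib.TwoGen.Core

/-!
# The left multiplication trick

Let every two elements of `G` generate a solvable subgroup and let `E` be a generating, conjugation
invariant set of `p`-elements (`p ≥ 5`) meeting each Sylow `p`-subgroup in an abelian subgroup.  Then
`E` contains all `p`-elements of `G`.
-/

set_option autoImplicit false
set_option linter.unusedSectionVars false

namespace Cfsg.Agent.Lib.TwoGen.LeftMul

open Subgroup Cfsg Cfsg.Agent.Lib.Core.Basic Cfsg.Agent.Lib.Core.PSolvable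
  Cfsg.Agent.Lib.TwoGen.Core

section parts

variable {G : Type*} [Group G]

/-- Exponents computing the `p`-part and the `p'`-part of elements of `G`. -/
structure Parts (G : Type*) [Group G] (p N M a : ℕ) : Prop where
  pow_p : ∀ g : G, g ^ (N * p ^ a) = 1
  pow_MN : ∀ g : G, g ^ (M * N) = 1
  decomp : ∀ g : G, g ^ M * g ^ N = g
  pe : ∀ g : G, IsPE p g → g ^ M = 1
  reg : ∀ g : G, (orderOf g).Coprime p → g ^ N = 1

theorem exists_parts [Finite G] (p : ℕ) [hp : Fact p.Prime] : ∃ N M a : ℕ, Parts G p N M a := by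
  classical
  set n := Nat.card G with hn
  have hn0 : n ≠ 0 := Nat.card_pos.ne'
  set a := n.factorization p with ha
  set q := p ^ a with hq
  set m := n / q with hm
  have hqm : q * m = n := Nat.ordProj_mul_ordCompl_eq_self n p
  have hmcop : Nat.Coprime p m := (Nat.coprime_ordCompl hp.out hn0)
  have hcop : Nat.Coprime q m := hmcop.pow_left a
  obtain ⟨N, hN1, hN2⟩ := Nat.chineseRemainder hcop 1 0
  obtain ⟨M, hM1, hM2⟩ := Nat.chineseRemainder hcop 0 1
  have hmN : m ∣ N := (Nat.modEq_zero_iff_dvd).1 hN2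
  have hqM : q ∣ M := (Nat.modEq_zero_iff_dvd).1 hM1
  have hsum : M + N ≡ 1 [MOD n] := by
    rw [← hqm, ← Nat.modEq_and_modEq_iff_modEq_mul hcop]
    constructor
    · have := (hM1.add hN1)
      simpa using this
    · have := (hM2.add hN2)
      simpa using this
  have hpow : ∀ (g : G) (k : ℕ), n ∣ k → g ^ k = 1 := fun g k hk =>
    orderOf_dvd_iff_pow_eq_one.1 ((orderOf_dvd_natCard g).trans hk)
  refine ⟨N, M, a, ⟨?_, ?_, ?_, ?_, ?_⟩⟩
  · intro g
    apply hpow
    rw [← hqm, mul_comm]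
    exact Nat.mul_dvd_mul hmN (dvd_refl _)
  · intro g
    apply hpow
    rw [← hqm]
    exact Nat.mul_dvd_mul hqM hmN
  · intro g
    rw [← pow_add]
    have h1 : M + N ≡ 1 [MOD orderOf g] := hsum.of_dvd (orderOf_dvd_natCard g)
    have := (pow_eq_pow_iff_modEq (x := g)).2 h1
    simpa using this
  · rintro g ⟨k, hk⟩
    have h1 : orderOf g ∣ p ^ k := orderOf_dvd_of_pow_eq_one hk
    obtain ⟨b, -, hb⟩ := (Nat.dvd_prime_pow hp.out).1 h1
    have h2 : orderOf g ∣ n := orderOf_dvd_natCard g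
    rw [← hqm, hb] at h2
    have h3 : p ^ b ∣ q := (Nat.Coprime.pow_left b hmcop).dvd_of_dvd_mul_right h2
    apply orderOf_dvd_iff_pow_eq_one.1
    rw [hb]
    exact h3.trans hqM
  · intro g hg
    apply orderOf_dvd_iff_pow_eq_one.1
    have h2 : orderOf g ∣ n := orderOf_dvd_natCard g
    rw [← hqm] at h2
    have h3 : orderOf g ∣ m := (Nat.Coprime.pow_right a hg).dvd_of_dvd_mul_left h2
    exact h3.trans hmN

variable {p N M a : ℕ}

theorem Parts.pow_of_isPE (h : Parts G p N M a) {g : G} (hg : IsPE p g) : g ^ N = g := by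
  have := h.decomp g
  rwa [h.pe g hg, one_mul] at this

theorem Parts.isPE_pow (h : Parts G p N M a) (g : G) : IsPE p (g ^ N) :=
  ⟨a, by rw [← pow_mul]; exact h.pow_p g⟩

theorem Parts.comm (h : Parts G p N M a) (g : G) : g ^ N * g ^ M = g := by
  rw [← pow_add, add_comm, pow_add]
  exact h.decomp g

end parts

section main

variable {G : Type*} [Group G] [Finite G] {p : ℕ} [Fact p.Prime]

/-- The subgroup generated by a conjugation invariant set is normal. -/
theorem normal_closure_of_conj {X : Type*} [Group X] {E : Set X}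
    (hEc : ∀ z ∈ E, ∀ g : X, g * z * g⁻¹ ∈ E) : (closure E).Normal := by
  constructor
  intro n hn g
  induction hn using closure_induction with
  | mem x hx => exact subset_closure (hEc x hx g)
  | one => simp
  | mul x y _ _ hx hy =>
    have e : g * (x * y) * g⁻¹ = (g * x * g⁻¹) * (g * y * g⁻¹) := by group
    rw [e]
    exact Subgroup.mul_mem _ hx hy
  | inv x _ hx =>
    have e : g * x⁻¹ * g⁻¹ = (g * x * g⁻¹)⁻¹ := by group
    rw [e]
    exact Subgroup.inv_mem _ hx

/-- The left multiplication step. -/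
theorem step {N M a : ℕ} (hP : Parts G p N M a) (hp2 : p ≠ 2) (hp3 : p ≠ 3)
    (htg : ∀ a b : G, Group.IsSolvable (closure ({a, b} : Set G))) (E : Set G) (h1 : (1 : G) ∈ E)
    (hEp : ∀ z ∈ E, IsPE p z) (hEc : ∀ z ∈ E, ∀ g : G, g * z * g⁻¹ ∈ E)
    (hmul : ∀ S : Sylow p G, ∀ x ∈ E, x ∈ (S : Subgroup G) → ∀ y ∈ E, y ∈ (S : Subgroup G) →
      x * y ∈ E ∧ x * y = y * x)
    {z g : G} (hz : z ∈ E) (hg : g ^ N ∈ E) : (z * g) ^ N ∈ E := by
  classical
  set X : Subgroup G := closure ({z, g} : Set G) with hX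
  have hzX : z ∈ X := subset_closure (by simp)
  have hgX : g ∈ X := subset_closure (by simp)
  haveI hsol : Group.IsSolvable X := htg z g
  let Z : Set X := {x | (x : G) ∈ E}
  have hZc : ∀ w ∈ Z, ∀ c : X, c * w * c⁻¹ ∈ Z := fun w hw c => hEc _ hw c
  let z' : X := ⟨z, hzX⟩
  let g' : X := ⟨g, hgX⟩
  have hWn : (closure Z).Normal := normal_closure_of_conj hZc
  have hz' : z' ∈ closure Z := subset_closure hz
  have hg' : g' ^ N ∈ closure Z := subset_closure (by simpa [Z, g'] using hg)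
  let ψ : X →* X ⧸ closure Z := QuotientGroup.mk' _
  have hψ : ∀ x ∈ closure Z, ψ x = 1 := fun x hx => (QuotientGroup.eq_one_iff _).2 hx
  have hgm : ψ g' = ψ (g' ^ M) := by
    have h2 : ψ (g' ^ N * g' ^ M) = ψ (g' ^ M) := by
      rw [map_mul, hψ _ hg', one_mul]
    have e : g' ^ N * g' ^ M = g' := Subtype.ext (by simpa [g'] using hP.comm g)
    rwa [e] at h2
  have hmem : (z' * g') ^ N ∈ closure Z := by
    apply (QuotientGroup.eq_one_iff _).1
    change ψ _ = 1
    rw [map_pow, map_mul, hψ _ hz', one_mul, hgm, ← map_pow, ← pow_mul]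
    have e : g' ^ (M * N) = 1 := Subtype.ext (by simpa [g'] using hP.pow_MN g)
    rw [e, map_one]
  have hpe : IsPE p ((z' * g') ^ N) := by
    obtain ⟨k, hk⟩ := hP.isPE_pow (z * g)
    exact ⟨k, Subtype.ext (by simpa [z', g'] using hk)⟩
  have := mem_of_mem_closure hp2 hp3 Cfsg.Agent.Lib.Core.PSolvable2.isPSolvable_of_isSolvable Z
    (by simpa [Z] using h1) (fun w hw => by
      obtain ⟨k, hk⟩ := hEp _ hw
      exact ⟨k, Subtype.ext (by simpa using hk)⟩) hZc ?_ hmem hpe
  · simpa [Z, z', g'] using this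
  · intro S x hx hxS y hy hyS
    have hSp : IsPGroup p ((S : Subgroup X).map X.subtype) := S.isPGroup'.map _
    obtain ⟨T, hT⟩ := hSp.exists_le_sylow
    have hxT : (x : G) ∈ (T : Subgroup G) := hT ⟨x, hxS, rfl⟩
    have hyT : (y : G) ∈ (T : Subgroup G) := hT ⟨y, hyS, rfl⟩
    obtain ⟨h3, h4⟩ := hmul T x hx hxT y hy hyT
    exact ⟨h3, Subtype.ext h4⟩

/-- **The left multiplication theorem.** -/
theorem forall_isPE_mem (hp2 : p ≠ 2) (hp3 : p ≠ 3)
    (htg : ∀ a b : G, Group.IsSolvable (closure ({a, b} : Set G))) (E : Set G) (h1 : (1 : G) ∈ E)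
    (hEp : ∀ z ∈ E, IsPE p z) (hEc : ∀ z ∈ E, ∀ g : G, g * z * g⁻¹ ∈ E)
    (hmul : ∀ S : Sylow p G, ∀ x ∈ E, x ∈ (S : Subgroup G) → ∀ y ∈ E, y ∈ (S : Subgroup G) →
      x * y ∈ E ∧ x * y = y * x)
    (hgen : closure E = ⊤) {g : G} (hg : IsPE p g) : g ∈ E := by
  classical
  obtain ⟨N, M, a, hP⟩ := exists_parts (G := G) p
  have hst := fun {z g : G} => step hP hp2 hp3 htg E h1 hEp hEc hmul (z := z) (g := g)
  have hinv : ∀ z ∈ E, z⁻¹ ∈ E := by
    intro z hz
    obtain ⟨S, hSz⟩ := (isPGroup_zpowers (hEp z hz)).exists_le_sylow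
    have hzS : z ∈ (S : Subgroup G) := hSz (mem_zpowers z)
    obtain ⟨n, hn⟩ := exists_natPow_eq_zpow z (-1)
    rw [zpow_neg_one] at hn
    rw [← hn]
    clear hn
    induction n with
    | zero => simpa using h1
    | succ n ih =>
      rw [pow_succ]
      exact (hmul S _ ih (Subgroup.pow_mem _ hzS n) z hz hzS).1
  have hall : ∀ h : G, (∀ v : G, v ^ N ∈ E → (h * v) ^ N ∈ E) ∧
      (∀ v : G, v ^ N ∈ E → (h⁻¹ * v) ^ N ∈ E) := by
    intro h
    have hh : h ∈ closure E := by rw [hgen]; trivial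
    induction hh using closure_induction with
    | mem x hx => exact ⟨fun v hv => hst hx hv, fun v hv => hst (hinv x hx) hv⟩
    | one => simp
    | mul x y _ _ hx hy =>
      refine ⟨fun v hv => ?_, fun v hv => ?_⟩
      · rw [mul_assoc]
        exact hx.1 _ (hy.1 v hv)
      · rw [mul_inv_rev, mul_assoc]
        exact hy.2 _ (hx.2 v hv)
    | inv x _ hx =>
      refine ⟨fun v hv => hx.2 v hv, fun v hv => ?_⟩
      rw [inv_inv]
      exact hx.1 v hv
  have h2 := (hall g).1 1 (by simpa using h1)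
  rw [mul_one, hP.pow_of_isPE hg] at h2
  exact h2

end main

end Cfsg.Agent.Lib.TwoGen.LeftMul
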